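import Groth.Agent.FlatStage.Flat
import Groth.Agent.DirColim.Descend
import Mathlib

/-! Descent of flatness along a directed colimit of algebras over a base. -/

set_option autoImplicit false
set_option backward.isDefEq.respectTransparency false
set_option backward.isDefEq.respectTransparency.types false
attribute [-instance] CategoryTheory.catToReflQuiver
set_option linter.style.haveILetI false

universe u

noncomputable section

open TensorProduct

namespace Groth.Agent.EssFlat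

variable {R : Type u} [CommRing R] {ι : Type u} [Preorder ι] {G : ι → Type u} [∀ i, CommRing (G i)]
  [∀ i, Algebra R (G i)] (g : ∀ i j, i ≤ j → G i →ₐ[R] G j) {A : Type u} [CommRing A] [Algebra R A]
  [∀ i, Algebra (G i) A] [∀ i, IsScalarTower R (G i) A] {S₀ : Type u} [CommRing S₀] [Algebra R S₀]

/-- The transition map on base changes. -/
def tr {i j : ι} (h : i ≤ j) : G i ⊗[R] S₀ →ₐ[R] G j ⊗[R] S₀ :=
  Algebra.TensorProduct.map (g i j h) (AlgHom.id R S₀)

/-- The map to the limit of the base changes. -/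
def toLim (i : ι) : G i ⊗[R] S₀ →ₐ[R] A ⊗[R] S₀ :=
  Algebra.TensorProduct.map (IsScalarTower.toAlgHom R (G i) A) (AlgHom.id R S₀)

omit [∀ i, Algebra (G i) A] [∀ i, IsScalarTower R (G i) A] in
theorem tr_tmul {i j : ι} (h : i ≤ j) (a : G i) (s : S₀) : tr g h (a ⊗ₜ[R] s) = g i j h a ⊗ₜ[R] s := rfl

theorem toLim_tmul (i : ι) (a : G i) (s : S₀) : toLim (A := A) i (a ⊗ₜ[R] s) = algebraMap (G i) A a ⊗ₜ[R] s := rfl

variable (hcolim : FlatCA.IsDirectedColimitRing G (fun i j h => (g i j h).toRingHom) A)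
include hcolim

theorem toLim_tr {i j : ι} (h : i ≤ j) (z : G i ⊗[R] S₀) : toLim (A := A) j (tr g h z) = toLim i z := by
  induction z using TensorProduct.induction_on with
  | zero => simp
  | tmul a s =>
    rw [tr_tmul, toLim_tmul, toLim_tmul]
    exact congrArg (fun x => x ⊗ₜ[R] s) (RingHom.congr_fun (hcolim.2.2.2.2.1 i j h) a)
  | add a b ha hb => simp only [map_add, ha, hb]

omit [∀ i, IsScalarTower R (G i) A] in
theorem g_trans {i j k : ι} (h₁ : i ≤ j) (h₂ : j ≤ k) (x : G i) : g j k h₂ (g i j h₁ x) = g i k (h₁.trans h₂) x :=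
  RingHom.congr_fun (hcolim.2.2.2.1 i j k h₁ h₂) x

omit [∀ i, IsScalarTower R (G i) A] in
theorem tr_tr {i j k : ι} (h₁ : i ≤ j) (h₂ : j ≤ k) (z : G i ⊗[R] S₀) :
    tr g h₂ (tr g h₁ z) = tr g (h₁.trans h₂) z := by
  induction z using TensorProduct.induction_on with
  | zero => simp
  | tmul a s => rw [tr_tmul, tr_tmul, tr_tmul, g_trans g hcolim]
  | add a b ha hb => simp only [map_add, ha, hb]

theorem isColim : DirColim.IsColim (fun i => IsScalarTower.toAlgHom R (G i) A) :=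
  haveI : IsDirected ι (· ≤ ·) := hcolim.1
  DirColim.IsColim.of_system g _ (fun i j h => AlgHom.ext fun x => RingHom.congr_fun (hcolim.2.2.2.2.1 i j h) x)
    hcolim.2.2.2.2.2.1 hcolim.2.2.2.2.2.2

theorem exists_eq_toLim (z : A ⊗[R] S₀) : ∃ i, ∃ x : G i ⊗[R] S₀, toLim i x = z := by
  obtain ⟨i, x, hx⟩ := (isColim g hcolim).exists_rTensor_eq S₀ z
  exact ⟨i, x, by rw [← hx, DirColim.rTensor_eq]; rfl⟩

omit [∀ i, IsScalarTower R (G i) A] in
theorem exists_stage_eq {i : ι} (s : Finset (G i × G i)) (hs : ∀ p ∈ s, algebraMap (G i) A p.1 = algebraMap (G i) A p.2) :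
    ∃ k, ∃ h : i ≤ k, ∀ p ∈ s, g i k h p.1 = g i k h p.2 := by
  classical
  induction s using Finset.induction_on with
  | empty => exact ⟨i, le_rfl, by simp⟩
  | insert p s _ ih =>
    obtain ⟨k, hk, hks⟩ := ih fun q hq => hs q (Finset.mem_insert_of_mem hq)
    obtain ⟨l, hl, hlp⟩ := hcolim.2.2.2.2.2.2 k (g i k hk p.1 - g i k hk p.2) (by
      rw [map_sub, sub_eq_zero]
      exact ((RingHom.congr_fun (hcolim.2.2.2.2.1 i k hk) p.1).trans (hs p (Finset.mem_insert_self _ _))).trans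
        (RingHom.congr_fun (hcolim.2.2.2.2.1 i k hk) p.2).symm)
    refine ⟨l, hk.trans hl, fun q hq => ?_⟩
    rw [← g_trans g hcolim hk hl, ← g_trans g hcolim hk hl]
    rcases Finset.mem_insert.1 hq with rfl | hq
    · exact sub_eq_zero.1 (by rw [← map_sub]; exact hlp)
    · rw [hks q hq]

theorem exists_tr_eq_zero {i : ι} (z : G i ⊗[R] S₀) (hz : toLim (A := A) i z = 0) :
    ∃ k, ∃ h : i ≤ k, tr g h z = 0 := by
  classical
  obtain ⟨j, φ, hφ⟩ := DirColim.exists_push_eq_zero (isColim g hcolim) S₀ z hz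
  haveI : IsDirected ι (· ≤ ·) := hcolim.1
  obtain ⟨k, hik, hjk⟩ := exists_ge_ge i j
  obtain ⟨t, ht⟩ := TensorProduct.exists_finset z
  -- the two transition maps agree on the coefficients at a later stage
  obtain ⟨l, hl, hls⟩ := exists_stage_eq g hcolim (i := k)
    (t.image fun p => (g i k hik p.1, g j k hjk (φ.1 p.1))) (by
      intro q hq
      obtain ⟨p, hp, rfl⟩ := Finset.mem_image.1 hq
      exact (RingHom.congr_fun (hcolim.2.2.2.2.1 i k hik) p.1).trans
        ((φ.apply p.1).symm.trans (RingHom.congr_fun (hcolim.2.2.2.2.1 j k hjk) (φ.1 p.1)).symm))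
  refine ⟨l, hik.trans hl, ?_⟩
  have h1 : tr g (hjk.trans hl) (Algebra.TensorProduct.map φ.1 (AlgHom.id R S₀) z) = 0 :=
    (congrArg _ hφ).trans (map_zero _)
  rw [← h1, ht, map_sum, map_sum, map_sum]
  refine Finset.sum_congr rfl fun p hp => ?_
  rw [Algebra.TensorProduct.map_tmul, tr_tmul, tr_tmul, AlgHom.coe_id, id_eq, ← g_trans g hcolim hik hl,
    ← g_trans g hcolim hjk hl, hls _ (Finset.mem_image_of_mem _ hp)]

omit hcolim

variable (M₀ : Type u) [AddCommGroup M₀] [Module S₀ M₀]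

/-- Flatness, on every model and at every later stage, where the element is invertible. -/
def Good (i : ι) (z : G i ⊗[R] S₀) : Prop :=
  ∀ (j : ι) (h : i ≤ j) (B₁ N₁ : Type u) [CommRing B₁] [Algebra (G j) B₁] [Algebra S₀ B₁] [Algebra R B₁]
    [IsScalarTower R (G j) B₁] [IsScalarTower R S₀ B₁] [Algebra.IsPushout R (G j) S₀ B₁] [AddCommGroup N₁]
    [Module B₁ N₁] [Module S₀ N₁] [IsScalarTower S₀ B₁ N₁] [Module (G j) N₁] [IsScalarTower (G j) B₁ N₁]
    (l₁ : M₀ →ₗ[S₀] N₁), IsBaseChange B₁ l₁ → ∀ (P : Ideal B₁) [P.IsPrime],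
      Algebra.IsPushout.equiv R (G j) S₀ B₁ (tr g h z) ∉ P → FlatCA.FlatAt (G j) P N₁

include hcolim

theorem good_mono {i j : ι} (h : i ≤ j) {z : G i ⊗[R] S₀} (hz : Good g M₀ i z) : Good g M₀ j (tr g h z) := by
  intro k hk B₁ N₁ _ _ _ _ _ _ _ _ _ _ _ _ _ l₁ hl₁ P _ hP
  exact hz k (h.trans hk) B₁ N₁ l₁ hl₁ P (by rwa [tr_tr g hcolim] at hP)

omit hcolim in
theorem equiv_natural {C C₁ C₂ B₀ B₁ B₂ : Type u} [CommRing C] [CommRing C₁] [CommRing C₂] [CommRing B₀]
    [CommRing B₁] [CommRing B₂] [Algebra C C₁] [Algebra C C₂] [Algebra C B₀]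
    [Algebra C₁ B₁] [Algebra B₀ B₁] [Algebra C B₁] [IsScalarTower C C₁ B₁] [IsScalarTower C B₀ B₁]
    [Algebra.IsPushout C C₁ B₀ B₁]
    [Algebra C₂ B₂] [Algebra B₀ B₂] [Algebra C B₂] [IsScalarTower C C₂ B₂] [IsScalarTower C B₀ B₂]
    [Algebra.IsPushout C C₂ B₀ B₂] (θ : C₁ →ₐ[C] C₂) (ψ : B₁ →+* B₂)
    (h₁ : ∀ c, ψ (algebraMap C₁ B₁ c) = algebraMap C₂ B₂ (θ c))
    (h₀ : ∀ b, ψ (algebraMap B₀ B₁ b) = algebraMap B₀ B₂ b) (z : C₁ ⊗[C] B₀) :
    ψ (Algebra.IsPushout.equiv C C₁ B₀ B₁ z) =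
      Algebra.IsPushout.equiv C C₂ B₀ B₂ (Algebra.TensorProduct.map θ (AlgHom.id C B₀) z) := by
  induction z using TensorProduct.induction_on with
  | zero => simp
  | tmul a b =>
    rw [Algebra.TensorProduct.map_tmul, Algebra.IsPushout.equiv_tmul, Algebra.IsPushout.equiv_tmul, map_mul, h₁, h₀]
    rfl
  | add a b ha hb => simp only [map_add, ha, hb]

variable [Algebra.FinitePresentation R S₀] [Module.FinitePresentation S₀ M₀]

set_option maxHeartbeats 1600000 in
/-- An element of the limit where the module is flat comes from a good element of a stage. -/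
theorem exists_good {B N : Type u} [CommRing B] [Algebra A B] [Algebra S₀ B] [Algebra R B] [IsScalarTower R A B]
    [IsScalarTower R S₀ B] [Algebra.IsPushout R A S₀ B] [AddCommGroup N] [Module B N] [Module S₀ N]
    [IsScalarTower S₀ B N] [Module A N] [IsScalarTower A B N] (l : M₀ →ₗ[S₀] N) (hl : IsBaseChange B l)
    (x : A ⊗[R] S₀)
    (hx : ∀ (P : Ideal B) [P.IsPrime], Algebra.IsPushout.equiv R A S₀ B x ∉ P → FlatCA.FlatAt A P N) :
    ∃ i, ∃ z : G i ⊗[R] S₀, toLim i z = x ∧ Good g M₀ i z := by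
  classical
  haveI : IsDirected ι (· ≤ ·) := hcolim.1
  obtain ⟨i, z, rfl⟩ := exists_eq_toLim g hcolim x
  obtain ⟨B₁, N₁, _, _, _, _, _, _, _, _, _, _, _, _, l₁, hp1, hp2, hl₁⟩ := FlatPure.exists_base_model R (G i) S₀ M₀
  haveI := hp1; haveI := hp2
  haveI : Algebra.FinitePresentation (G i) B₁ :=
    Algebra.FinitePresentation.equiv (Algebra.IsPushout.equiv R (G i) S₀ B₁)
  haveI : Module.FinitePresentation B₁ N₁ := Module.FinitePresentation.of_equiv hl₁.equiv
  letI : Algebra (G i) B := ((algebraMap A B).comp (algebraMap (G i) A)).toAlgebra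
  haveI : IsScalarTower (G i) A B := IsScalarTower.of_algebraMap_eq' rfl
  obtain ⟨_, _, _, hpoB, hpoB', _, _, f, hf⟩ := FlatStage.rebase l₁ hl₁ l hl (C := R) (C₁ := G i) (C₂ := A)
  haveI := hpoB; haveI := hpoB'
  let u : B₁ := Algebra.IsPushout.equiv R (G i) S₀ B₁ z
  have hu : algebraMap B₁ B u = Algebra.IsPushout.equiv R A S₀ B (toLim i z) :=
    equiv_natural (IsScalarTower.toAlgHom R (G i) A) (algebraMap B₁ B)
      (fun c => (IsScalarTower.algebraMap_apply (G i) B₁ B c).symm.trans (IsScalarTower.algebraMap_apply (G i) A B c))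
      (fun b => (IsScalarTower.algebraMap_apply S₀ B₁ B b).symm) z
  let T := Localization.Away u
  let L := LocalizedModule (Submonoid.powers u) N₁
  haveI : Algebra.FinitePresentation (G i) T := by
    haveI : Algebra.FinitePresentation B₁ T := IsLocalization.Away.finitePresentation u
    exact Algebra.FinitePresentation.trans (G i) B₁ T
  haveI : Module.FinitePresentation T L := inferInstance
  have hflatA : Module.Flat A (A ⊗[G i] L) := FlatStage.flat_away_baseChange f hf u (by rw [hu]; exact hx)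
  letI : ∀ j : {j // i ≤ j}, Algebra (G i) (G j.1) := fun j => (g i j.1 j.2).toRingHom.toAlgebra
  haveI : ∀ j : {j // i ≤ j}, IsScalarTower (G i) (G j.1) A := fun j =>
    IsScalarTower.of_algebraMap_eq' (hcolim.2.2.2.2.1 i j.1 j.2).symm
  let g' : ∀ j k : {j // i ≤ j}, j ≤ k → G j.1 →ₐ[G i] G k.1 := fun j k h =>
    { (g j.1 k.1 h).toRingHom with commutes' := fun a => g_trans g hcolim j.2 h a }
  have hcolim' : FlatCA.IsDirectedColimitRing (fun j : {j // i ≤ j} => G j.1)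
      (fun j k h => (g' j k h).toRingHom) A := by
    refine ⟨⟨fun a b => ?_⟩, ⟨⟨i, le_rfl⟩⟩, fun a => hcolim.2.2.1 a.1, fun a b c h₁ h₂ => hcolim.2.2.2.1 a.1 b.1 c.1 h₁ h₂,
      fun a b h => hcolim.2.2.2.2.1 a.1 b.1 h, fun a => ?_, fun a x hx => ?_⟩
    · obtain ⟨c, h₁, h₂⟩ := exists_ge_ge a.1 b.1
      exact ⟨⟨c, a.2.trans h₁⟩, h₁, h₂⟩
    · obtain ⟨j, y, hy⟩ := hcolim.2.2.2.2.2.1 a
      obtain ⟨c, h₁, h₂⟩ := exists_ge_ge i j
      exact ⟨⟨c, h₁⟩, g j c h₂ y, (RingHom.congr_fun (hcolim.2.2.2.2.1 j c h₂) y).trans hy⟩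
    · obtain ⟨b, hb, hbx⟩ := hcolim.2.2.2.2.2.2 a.1 x hx
      exact ⟨⟨b, a.2.trans hb⟩, hb, hbx⟩
  obtain ⟨⟨j, hij⟩, hj⟩ := FlatSyz5.exists_flat_stage (fun j : {j // i ≤ j} => G j.1) g' A hcolim' (B₀ := T) L hflatA
  refine ⟨j, tr g hij z, toLim_tr g hcolim hij z, ?_⟩
  intro k hk B₂ N₂ _ _ _ _ _ _ _ _ _ _ _ _ _ l₂ hl₂ P _ hP
  rw [tr_tr g hcolim] at hP
  letI : Algebra (G i) (G k) := (g i k (hij.trans hk)).toRingHom.toAlgebra
  haveI : IsScalarTower R (G i) (G k) := IsScalarTower.of_algebraMap_eq fun a => ((g i k (hij.trans hk)).commutes a).symm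
  have hflat : Module.Flat (G k) (G k ⊗[G i] L) := by
    let j' : {j // i ≤ j} := ⟨j, hij⟩
    let k' : {j // i ≤ j} := ⟨k, hij.trans hk⟩
    letI : Algebra (G j'.1) (G k'.1) := (g' j' k' hk).toRingHom.toAlgebra
    haveI : IsScalarTower (G i) (G j'.1) (G k'.1) := IsScalarTower.of_algebraMap_eq fun a => ((g' j' k' hk).commutes a).symm
    haveI : Module.Flat (G j'.1) (G j'.1 ⊗[G i] L) := hj
    exact Module.Flat.of_linearEquiv
      (AlgebraTensorModule.cancelBaseChange (G i) (G j'.1) (G k'.1) (G k'.1) L).symm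
  letI : Algebra (G i) B₂ := ((algebraMap (G k) B₂).comp (algebraMap (G i) (G k))).toAlgebra
  haveI : IsScalarTower (G i) (G k) B₂ := IsScalarTower.of_algebraMap_eq' rfl
  obtain ⟨_, _, _, hpo, hpo', _, _, f₂, hf₂⟩ := FlatStage.rebase l₁ hl₁ l₂ hl₂ (C := R) (C₁ := G i) (C₂ := G k)
  haveI := hpo; haveI := hpo'
  have hu₂ : algebraMap B₁ B₂ u = Algebra.IsPushout.equiv R (G k) S₀ B₂ (tr g (hij.trans hk) z) :=
    equiv_natural (g i k (hij.trans hk)) (algebraMap B₁ B₂)
      (fun c => (IsScalarTower.algebraMap_apply (G i) B₁ B₂ c).symm.trans (IsScalarTower.algebraMap_apply (G i) (G k) B₂ c))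
      (fun b => (IsScalarTower.algebraMap_apply S₀ B₁ B₂ b).symm) z
  refine FlatStage.flatAt_of_flat_away_baseChange f₂ hf₂ u P (fun h => hP ?_) hflat
  rw [← hu₂]
  exact h

end Groth.Agent.EssFlat
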