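import Groth.Agent.EssFlat.Basic
import Mathlib

/-! Comparing models of a localisation with models of the finitely presented algebra. -/

set_option autoImplicit false
set_option backward.isDefEq.respectTransparency false
set_option backward.isDefEq.respectTransparency.types false
attribute [-instance] CategoryTheory.catToReflQuiver
set_option linter.style.haveILetI false

universe u

noncomputable section

open TensorProduct

namespace Groth.Agent.EssFlat

set_option maxHeartbeats 1600000 in
theorem exists_compare {R S₀ S A S' : Type u} [CommRing R] [CommRing S₀] [CommRing S] [CommRing A] [CommRing S']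
    [Algebra R S₀] [Algebra S₀ S] [Algebra R S] [IsScalarTower R S₀ S] (W : Submonoid S₀) [IsLocalization W S]
    [Algebra R A] [Algebra S S'] [Algebra A S'] [Algebra R S'] [IsScalarTower R S S'] [IsScalarTower R A S']
    [Algebra.IsPushout R S A S']
    {M₀ M M' : Type u} [AddCommGroup M₀] [Module S₀ M₀] [AddCommGroup M] [Module S M] [Module S₀ M]
    [IsScalarTower S₀ S M] (m : M₀ →ₗ[S₀] M) (hm : IsBaseChange S m)
    [AddCommGroup M'] [Module S' M'] [Module A M'] [IsScalarTower A S' M'] [Module S M'] [IsScalarTower S S' M']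
    (f : M →ₗ[S] M') (hf : IsBaseChange S' f) :
    ∃ (B N : Type u) (_ : CommRing B) (_ : Algebra A B) (_ : Algebra S₀ B) (_ : Algebra R B)
      (_ : IsScalarTower R A B) (_ : IsScalarTower R S₀ B) (_ : Algebra.IsPushout R A S₀ B) (_ : AddCommGroup N)
      (_ : Module B N) (_ : Module S₀ N) (_ : IsScalarTower S₀ B N) (_ : Module A N) (_ : IsScalarTower A B N)
      (l : M₀ →ₗ[S₀] N) (φ : B →+* S'),
      IsBaseChange B l ∧ (∀ a, φ (algebraMap A B a) = algebraMap A S' a) ∧
      (∀ s, φ (algebraMap S₀ B s) = algebraMap S S' (algebraMap S₀ S s)) ∧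
      (∀ (q : Ideal S') [q.IsPrime], FlatCA.FlatAt A q M' ↔ FlatCA.FlatAt A (q.comap φ) N) ∧
      ∀ (P : Ideal B) [P.IsPrime], (∀ w ∈ W, algebraMap S₀ B w ∉ P) → ∃ q : Ideal S', q.IsPrime ∧ q.comap φ = P := by
  obtain ⟨B, N, _, _, _, _, _, _, _, _, _, _, _, _, l, hp1, hp2, hl⟩ := FlatPure.exists_base_model R A S₀ M₀
  haveI := hp1; haveI := hp2
  letI : Algebra S₀ S' := ((algebraMap S S').comp (algebraMap S₀ S)).toAlgebra
  haveI : IsScalarTower S₀ S S' := IsScalarTower.of_algebraMap_eq' rfl
  haveI : IsScalarTower R S₀ S' := IsScalarTower.of_algebraMap_eq fun r => by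
    rw [IsScalarTower.algebraMap_apply S₀ S S', ← IsScalarTower.algebraMap_apply R S₀ S,
      ← IsScalarTower.algebraMap_apply R S S']
  let φ : B →ₐ[R] S' := Algebra.pushoutDesc B (IsScalarTower.toAlgHom R A S') (IsScalarTower.toAlgHom R S₀ S')
    fun _ _ => mul_comm _ _
  letI : Algebra B S' := φ.toRingHom.toAlgebra
  haveI t1 : IsScalarTower A B S' := IsScalarTower.of_algebraMap_eq fun a =>
    (Algebra.pushoutDesc_left B (IsScalarTower.toAlgHom R A S') (IsScalarTower.toAlgHom R S₀ S')
      (fun _ _ => mul_comm _ _) a).symm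
  haveI t2 : IsScalarTower S₀ B S' := IsScalarTower.of_algebraMap_eq fun s =>
    (Algebra.pushoutDesc_right B (IsScalarTower.toAlgHom R A S') (IsScalarTower.toAlgHom R S₀ S')
      (fun _ _ => mul_comm _ _) s).symm
  haveI : IsScalarTower R B S' := IsScalarTower.of_algebraMap_eq fun r => (φ.commutes r).symm
  haveI hpo : Algebra.IsPushout S₀ S B S' := by
    have h1 : Algebra.IsPushout R S A S' := inferInstance
    exact (Algebra.IsPushout.comp_iff (R := R) (S := S₀) (R' := A) (S' := B) (T := S) (T' := S')).1 h1
  haveI : Algebra.IsPushout S₀ B S S' := Algebra.IsPushout.symm hpo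
  haveI : Module.Flat S₀ S := IsLocalization.flat S W
  haveI : Module.Flat B S' := Module.Flat.isBaseChange S₀ B S S' Algebra.IsPushout.out
  letI : Module S₀ M' := Module.compHom M' (algebraMap S₀ S')
  haveI : IsScalarTower S₀ S' M' := IsScalarTower.of_algebraMap_smul fun _ _ => rfl
  haveI : IsScalarTower S₀ S M' := IsScalarTower.to₁₂₄ S₀ S S' M'
  letI : Module B M' := Module.compHom M' (algebraMap B S')
  haveI : IsScalarTower B S' M' := IsScalarTower.of_algebraMap_smul fun _ _ => rfl
  haveI : IsScalarTower S₀ B M' := IsScalarTower.to₁₂₄ S₀ B S' M'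
  let b : N →ₗ[B] M' := hl.lift ((f.restrictScalars S₀).comp m)
  have hb : IsBaseChange S' b := IsBaseChange.of_comp hl (by
    rw [show ((b.restrictScalars S₀) ∘ₗ l) = (f.restrictScalars S₀).comp m from LinearMap.ext fun n => hl.lift_eq _ n]
    exact hm.comp hf)
  refine ⟨B, N, inferInstance, inferInstance, inferInstance, inferInstance, inferInstance, inferInstance, hp1,
    inferInstance, inferInstance, inferInstance, inferInstance, inferInstance, inferInstance, l, algebraMap B S', hl,
    fun a => (IsScalarTower.algebraMap_apply A B S' a).symm,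
    fun s => (IsScalarTower.algebraMap_apply S₀ B S' s).symm.trans (IsScalarTower.algebraMap_apply S₀ S S' s),
    fun q _ => ?_, fun P _ hP => ?_⟩
  · haveI : (q.comap (algebraMap B S')).IsPrime := Ideal.IsPrime.comap _
    haveI : q.LiesOver (q.comap (algebraMap B S')) := ⟨rfl⟩
    exact (DevEtale.flatAt_iff_of_flat A b hb (q.comap (algebraMap B S')) q).symm
  · haveI : (P.comap (algebraMap S₀ B)).IsPrime := Ideal.IsPrime.comap _
    have hdisj : Disjoint (W : Set S₀) (P.comap (algebraMap S₀ B) : Set S₀) :=
      Set.disjoint_left.2 fun w hw h => hP w hw h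
    let z : Ideal S := (P.comap (algebraMap S₀ B)).map (algebraMap S₀ S)
    haveI : z.IsPrime := IsLocalization.isPrime_of_isPrime_disjoint W S _ inferInstance hdisj
    obtain ⟨q, hq, hqP, -⟩ := FlatHens.exists_prime_pair (R := S₀) (S := B) (T := S) (U := S') P z
      (IsLocalization.comap_map_of_isPrime_disjoint W S inferInstance hdisj).symm
    exact ⟨q, hq, hqP⟩

end Groth.Agent.EssFlat
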